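import Cfsg.Agent.H462.TDO.Fam

/-!
# S5719, `³D₄(q)`, `|A|` odd: `td4_O` (helper462)

* `exists_fix` : an outer involution of `³D₄(q)`, `q = q₀²`, centralises a subgroup `³D₄(q₀)`;
* `td4_O`.
-/

set_option autoImplicit false
set_option linter.unusedSectionVars false
set_option maxHeartbeats 400000

namespace Cfsg.Agent.H462.TDO

open CoxeterSystem Cfsg Cfsg.Lie Cfsg.Lie.ChevalleyDatum
open Cfsg.Agent.ChevalleyStructure Cfsg.Agent.ChevalleyStructure.Elts Cfsg.Agent.ChevalleyStructure.CoxeterGeom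
  Cfsg.Agent.ChevalleyStructure.CoxeterGeomTypes Cfsg.Agent.ChevalleyStructure.NPerm
open Cfsg.Agent.Tits.Roots Cfsg.Agent.Tits.Core Cfsg.Agent.Nodes Cfsg.Agent.Nodes.Reps Cfsg.Agent.Nodes.BNOf
  Cfsg.Agent.Nodes.OppDec
  Cfsg.Agent.Nodes.RGDChev Cfsg.Agent.Nodes.Bruhat Cfsg.Agent.Nodes.NormalForm
open Cfsg.Agent.KFacts.RgdField Cfsg.Agent.KFacts.RgdChevCoord
open Cfsg.Agent.BpExc Cfsg.Agent.BpExc.FamField Cfsg.Agent.BpExc.TorCent Cfsg.Agent.BpExc.TorChev Cfsg.Agent.BpExc.Tow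
  Cfsg.Agent.BpExc.TowChev Cfsg.Agent.BpExc.Fr Cfsg.Agent.BpExc.Pair Cfsg.Agent.BpExc.LangFr Cfsg.Agent.GpExc.Field
  Cfsg.Agent.BpExc.FamUntw Cfsg.Agent.BpExc.FamInst
open Cfsg.Agent.H469.Exc Cfsg.Agent.H469.Exc.SigFr
open Cfsg.Agent.ChevalleyStructure.SignedSymm Cfsg.Agent.ChevalleyStructure.GraphSymm
open Cfsg.Agent.LangThm (mem_XX_vec)
open Cfsg.Agent.H316.U6 Cfsg.Agent.H85
open Cfsg.Agent.CpAut.RgdUntw (fld)
open Cfsg.Agent.BpExc.FamTw.Gr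
open Cfsg.Agent.CpAut.RgdTwD4 (symS)
open Cfsg.Agent.H347.Bal.Four

/-- an outer involution of `³D₄(q)` centralises a subgroup `³D₄(r ^ m)`, `q = r ^ (2 m)` -/
theorem exists_fix {r : ℕ} [Fact r.Prime] {K : Type} [Field K] [Fintype K] [CharP K r] {q : ℕ} (hq : IsPrimePow q)
    (hK : Fintype.card K = q ^ 3) (x : MulAut ↥(twistedD4 K q)) (hx : orderOf x = 2)
    (hout : ∀ a, x ≠ MulAut.conj a) :
    ∃ (m : ℕ) (K₁ : Type) (_ : Field K₁) (_ : Fintype K₁) (_ : CharP K₁ r)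
      (j : ↥(twistedD4 K₁ (r ^ m)) →* ↥(twistedD4 K q)), 0 < m ∧ q = r ^ (2 * m) ∧ Fintype.card K₁ = (r ^ m) ^ 3 ∧
      Function.Injective j ∧ ∀ k, x (j k) = j k := by
  obtain ⟨f⟩ := RowsUntw.exists_emb r K
  obtain ⟨n, hn0, hn⟩ := exists_eq_pow (r := r) hq hK
  have hk := locFin r
  obtain ⟨d, hd1, hd2, hd3, hd4⟩ := mdata4 hq hK f hn0 hn
  have hrp : r.Prime := Fact.out
  have hxp : x ^ 2 = 1 := by rw [← hx, pow_orderOf_eq_one]
  have hΦ : ∀ a, frb (KK r) r n a = a ^ q := fun a => by rw [frb_apply, hn]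
  have hσ : d.σ = gr hD4 symmD4a * fld chevD4 (frb (KK r) r n) := by rw [hd3]; rfl
  have hran : ∀ y, d.σ y = y → y ∈ d.ι.range := by
    intro y hy
    have h1 := d.pow_dd y hy
    rwa [hd1, pow_one] at h1
  rcases famX hk hq hK f r hΦ Nat.prime_two (by norm_num) x hx with
    ⟨y, hy1, hy2, hy3⟩ | ⟨i, y, j, m, hi, hm0, hj, hqm, hle, h⟩
  · exfalso
    obtain ⟨b, hb⟩ := hran y (by rw [hσ]; exact hy2)
    apply hout b
    refine MulEquiv.ext fun a => ?_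
    apply d.inj
    rw [MulAut.conj_apply, map_mul, map_mul, map_inv, hb, hd4]
    exact hy3 a
  · have hpT : IsType chevD4 4 Cfsg.Lie.coxeterD4 := Nodes.RGDTwD4.hp
    -- Lang
    obtain ⟨g', hFr⟩ := Cfsg.Agent.BpExc.FamTw.Frame.fr_sig4 hk r hpT coxeterD4.toCoxeterSystem j m
    obtain ⟨z, hz⟩ := lang_all hpT coxeterD4.toCoxeterSystem hm0
      (Cfsg.Agent.BpExc.FamTw.Frame.isFrob_sig4 (k := KK r) r j m) hFr 1 y
    rw [map_one, one_mul] at hz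
    -- the small group
    have hm2 : 3 * m ≠ 0 := by omega
    let K₁ : Type := GaloisField r (3 * m)
    let _ : Fintype K₁ := Fintype.ofFinite K₁
    have hK₁ : Fintype.card K₁ = (r ^ m) ^ 3 := by
      rw [← Nat.card_eq_fintype_card, GaloisField.card r (3 * m) hm2, ← pow_mul, mul_comm]
    have hq₁ : IsPrimePow (r ^ m) := (isPrimePow_nat_iff _).2 ⟨r, m, hrp, hm0, rfl⟩
    obtain ⟨f₁⟩ := RowsUntw.exists_emb r K₁
    obtain ⟨d₁, hd1', hd2', hd3', hd4'⟩ := mdata4 hq₁ hK₁ f₁ hm0 rfl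
    have hσ₁ : d₁.σ = gr hD4 symmD4a * fld chevD4 (frb (KK r) r m) := by rw [hd3']; rfl
    -- the automorphism carrying `d₁.σ` to `sig4 j m`
    obtain ⟨δ, hδ⟩ : ∃ δ : MulAut ↥(chevD4.group (KK r)),
        δ * d₁.σ = (gr hD4 symmD4a ^ j * fld chevD4 (frb (KK r) r m)) * δ := by
      rcases hj with rfl | rfl
      · exact ⟨1, by rw [hσ₁, pow_one, mul_one, one_mul]⟩
      · refine ⟨gr hD4 symS, ?_⟩
        rw [hσ₁, ← mul_assoc, delta_gamma, mul_assoc, gr_mul_fld hD4 symS, ← mul_assoc]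
    have hδ' : ∀ w, δ (d₁.σ w) =
        (gr hD4 symmD4a ^ j * fld chevD4 (frb (KK r) r m) : MulAut ↥(chevD4.group (KK r))) (δ w) := fun w =>
      congrArg (fun β : MulAut ↥(chevD4.group (KK r)) => β w) hδ
    let J : ↥(twistedD4 K₁ (r ^ m)) →* ↥(chevD4.group (KK r)) :=
      (MulAut.conj z⁻¹).toMonoidHom.comp (δ.toMonoidHom.comp d₁.ι)
    have hJ : ∀ a, J a = z⁻¹ * δ (d₁.ι a) * z := by
      intro a
      change z⁻¹ * δ (d₁.ι a) * z⁻¹⁻¹ = _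
      rw [inv_inv]
    have hJi : Function.Injective J := (MulAut.conj z⁻¹).injective.comp (δ.injective.comp d₁.inj)
    have hJf : ∀ a, (MulAut.conj y * (gr hD4 symmD4a ^ j * fld chevD4 (frb (KK r) r m)) :
        MulAut ↥(chevD4.group (KK r))) (J a) = J a := by
      intro a
      have h1 : (gr hD4 symmD4a ^ j * fld chevD4 (frb (KK r) r m) : MulAut ↥(chevD4.group (KK r))) (δ (d₁.ι a)) =
        δ (d₁.ι a) := by rw [← hδ', d₁.fix]
      have h3 : z * J a * z⁻¹ = δ (d₁.ι a) := by rw [hJ]; group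
      have h4 : (gr hD4 symmD4a ^ j * fld chevD4 (frb (KK r) r m) : MulAut ↥(chevD4.group (KK r))) z = z * y := by
        rw [hz, mul_inv_cancel_left]
        rfl
      have h5 : z * (y * (gr hD4 symmD4a ^ j * fld chevD4 (frb (KK r) r m) : MulAut ↥(chevD4.group (KK r))) (J a) *
          y⁻¹) * z⁻¹ = z * J a * z⁻¹ := by
        rw [h3, ← h1, ← h3, map_mul, map_mul, map_inv, h4]
        group
      exact mul_left_cancel (mul_right_cancel h5)
    have hJr : ∀ a, J a ∈ d.ι.range := by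
      intro a
      apply hran
      have h1 : J a ∈ fixedSubgroup (MulAut.conj y * (gr hD4 symmD4a ^ j * fld chevD4 (frb (KK r) r m))) :=
        Glue.mem_fixed.2 (hJf a)
      have h2 := hle h1
      rw [← hσ] at h2
      exact Glue.mem_fixed.1 h2
    let e := MonoidHom.ofInjective d.inj
    let j' : ↥(twistedD4 K₁ (r ^ m)) →* ↥(twistedD4 K q) :=
      e.symm.toMonoidHom.comp (J.codRestrict d.ι.range hJr)
    have hj' : ∀ a, d.ι (j' a) = J a := by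
      intro a
      have h1 := e.apply_symm_apply (J.codRestrict d.ι.range hJr a)
      exact congrArg Subtype.val h1
    refine ⟨m, K₁, inferInstance, inferInstance, inferInstance, j', hm0, hqm, hK₁, ?_, ?_⟩
    · intro a b hab
      apply hJi
      rw [← hj', ← hj', hab]
    · intro a
      have hxi : x ^ i = x := by
        have hodd : i % 2 = 1 := by
          rcases Nat.mod_two_eq_zero_or_one i with h0 | h0
          · exfalso
            have h1 : 2 ∣ i := Nat.dvd_of_mod_eq_zero h0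
            have h2 := Nat.dvd_gcd h1 (dvd_refl 2)
            rw [hi] at h2
            omega
          · exact h0
        conv_lhs => rw [← Nat.div_add_mod i 2, hodd]
        rw [pow_add, pow_mul, hxp, one_pow, one_mul, pow_one]
      apply d.inj
      have h1 := h (j' a)
      rw [hxi, ← hd4, hj', hJf] at h1
      rw [h1, hj']

/-- **`³D₄(q)`, `|A|` odd.** -/
theorem td4_O (K : Type) [Field K] [Fintype K] (q : ℕ) (hq : IsPrimePow q) (hK : Fintype.card K = q ^ 3)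
    (_hs : IsSimpleGroup (twistedD4 K q)) : Cfsg.Agent.H209.Fxy.KillO (twistedD4 K q) := by
  intro A Γ h hO
  obtain ⟨σ, hσ, h2, hout⟩ := Cfsg.Agent.H460.IFO.exists_outer h hO
  obtain ⟨r, hr⟩ := CharP.exists K
  have hrp : Fact r.Prime := ⟨CharP.char_is_prime K r⟩
  obtain ⟨m, K₁, _, _, _, j, hm0, hqm, hK₁, hinj, hfix⟩ := exists_fix (r := r) hq hK σ h2 hout
  have hq₁ : IsPrimePow (r ^ m) := (isPrimePow_nat_iff _).2 ⟨r, m, hrp.out, hm0, rfl⟩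
  have : Finite ↥(twistedD4 K₁ (r ^ m)) := inferInstance
  have hlt := Cfsg.Agent.H460.IFO.split_lt h hO hσ h2 (FixBN.ThreeD4Split.hasSplit_D4 (p := r) hq₁ hK₁) j hinj hfix
  have hle := Cfsg.Agent.H460.IFO.index_le_card A
  have hc := Cfsg.Agent.S1067.result hq hK
  have hc₁ := Cfsg.Agent.S1067.result hq₁ hK₁
  obtain ⟨Q, hQ⟩ : ∃ Q, Q = r ^ m := ⟨_, rfl⟩
  rw [← hQ] at hc₁ hq₁
  have hQ2 : 2 ≤ Q := hq₁.two_le
  have hqQ : q = Q ^ 2 := by rw [hqm, hQ, ← pow_mul, mul_comm 2 m]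
  have hdvd : r ^ (12 * m) ∣ Nat.card ↥(twistedD4 K₁ (r ^ m)) := by
    rw [← hQ, hc₁, mul_comm 12 m, pow_mul, ← hQ]
    exact Dvd.dvd.mul_right (Dvd.dvd.mul_right (Dvd.dvd.mul_right dvd_rfl _) _) _
  have hfac : 12 * m ≤ (Nat.card ↥(twistedD4 K₁ (r ^ m))).factorization r :=
    (hrp.out.pow_dvd_iff_le_factorization Nat.card_pos.ne').1 hdvd
  have h3 : Q ^ 72 ≤ (r ^ (Nat.card ↥(twistedD4 K₁ (r ^ m))).factorization r) ^ 6 := by
    have h4 : Q ^ 72 = (r ^ (12 * m)) ^ 6 := by rw [hQ, ← pow_mul, ← pow_mul]; congr 1; ring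
    rw [h4]
    exact Nat.pow_le_pow_left (Nat.pow_le_pow_right hrp.out.pos hfac) 6
  have h5 : Nat.card ↥(twistedD4 K q) ≤ Q ^ 72 := by
    rw [hc, hqQ]
    have h6 : (Q ^ 2) ^ 2 - 1 ≤ Q ^ 4 := by rw [← pow_mul]; exact Nat.sub_le _ _
    have h7 : (Q ^ 2) ^ 6 - 1 ≤ Q ^ 12 := by rw [← pow_mul]; exact Nat.sub_le _ _
    have h8 : (Q ^ 2) ^ 8 + (Q ^ 2) ^ 4 + 1 ≤ Q ^ 32 := by
      rw [← pow_mul, ← pow_mul]
      have h9 : 2 ^ 16 * Q ^ 16 ≤ Q ^ 32 := by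
        calc 2 ^ 16 * Q ^ 16 ≤ Q ^ 16 * Q ^ 16 := Nat.mul_le_mul_right _ (Nat.pow_le_pow_left hQ2 16)
          _ = Q ^ 32 := by ring
      have h10 : Q ^ 8 ≤ Q ^ 16 := Nat.pow_le_pow_right (by omega) (by norm_num)
      have h11 : 1 ≤ Q ^ 16 := Nat.one_le_pow _ _ (by omega)
      calc Q ^ (2 * 8) + Q ^ (2 * 4) + 1 = Q ^ 16 + Q ^ 8 + 1 := rfl
        _ ≤ 2 ^ 16 * Q ^ 16 := by omega
        _ ≤ _ := h9
    calc (Q ^ 2) ^ 12 * ((Q ^ 2) ^ 2 - 1) * ((Q ^ 2) ^ 6 - 1) * ((Q ^ 2) ^ 8 + (Q ^ 2) ^ 4 + 1)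
        ≤ (Q ^ 2) ^ 12 * Q ^ 4 * Q ^ 12 * Q ^ 32 :=
          Nat.mul_le_mul (Nat.mul_le_mul (Nat.mul_le_mul le_rfl h6) h7) h8
      _ = Q ^ 72 := by ring
  omega

end Cfsg.Agent.H462.TDO
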