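import Cfsg.Agent.H347.Bal.TwFour
import Cfsg.Agent.H460.IFO.StReal
import Cfsg.Agent.FixBN.ThreeD4Split
import Cfsg.Agent.H209.IF.Kill

/-!
# S5719, `³D₄(q)`, `|A|` odd (helper462)

* `famX` : `H347.Bal.FourA.famX` with the extra information `q = r ^ (p e')`;
* `exists_fix` : an outer involution of `³D₄(q)` centralises a subgroup `³D₄(q₀)`, `q = q₀²`;
* `td4_O`.
-/

set_option autoImplicit false
set_option linter.unusedSectionVars false
set_option maxHeartbeats 400000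

namespace Cfsg.Agent.H462.TDO

open Cfsg.Agent.BpExc Cfsg.Agent.BpExc.FamTw Cfsg.Agent.BpExc.FamTw.Four


open CoxeterSystem Cfsg.Agent.ChevalleyStructure.CoxeterGeom Cfsg.Agent.Tits.Roots Cfsg.Agent.Tits.Core
  Cfsg.Agent.Tits.Exchange Cfsg.Agent.Nodes.Reps Cfsg.Agent.Nodes.BNOf Cfsg.Agent.Nodes.StabComb
  Cfsg.Agent.Nodes.Bruhat Cfsg.Agent.Nodes.OppDec Cfsg.Agent.Nodes.RGDTwGen Cfsg.Agent.Nodes.RGDChev
  Cfsg.Agent.Nodes.RGDFold Cfsg.Agent.Nodes.RGDFoldSL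
open Cfsg.Agent.KFacts.RgdOpp Cfsg.Agent.KFacts.RgdAut Cfsg.Agent.KFacts.RgdDiag Cfsg.Agent.KFacts.RgdRigid
  Cfsg.Agent.KFacts.RgdField Cfsg.Agent.KFacts.RgdTau Cfsg.Agent.KFacts.RgdNodes
open Cfsg.Lie Cfsg.Agent.ChevalleyStructure Cfsg.Agent.ChevalleyStructure.Elts Cfsg.Agent.ChevStructure.FieldMap
open Cfsg.Agent.ChevalleyStructure.SL2Hom (up lo)
open Cfsg.Agent.ChevalleyStructure.SignedSymm
open Cfsg.Agent.KFacts.TwDFour.Out
open Cfsg.Agent.Nodes.RGDTwD4 Cfsg.Agent.Nodes.RGDTwNode.D4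
open Cfsg.Agent.ParSys.Fam.D4 (hf)
open Cfsg.Agent.ChevalleyStructure.GraphSymm (symmD4a)
open Cfsg.Agent.CpAut.RgdFix Cfsg.Agent.CpAut.RgdCoh Cfsg.Agent.CpAut.RgdConj Cfsg.Agent.CpAut.RgdSub
  Cfsg.Agent.CpAut.RgdTwStd Cfsg.Agent.CpAut.RgdTwD4
open Cfsg.Agent.CpAut.RgdUntw (fld fld_coe fld_mul fld_one fld_pow)
open Cfsg.Agent.GpExc.Field (glMap coe_glMap)
open Cfsg.Agent.BpExc.FamTw.Gr Cfsg.Agent.BpExc.FamField
open Cfsg.Agent.KFacts.RgdChevCoord (TT XX xc coe_xc)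
open Cfsg.Agent.BpExc.TowChev (LocFin coordsL)
open Cfsg.Agent.BpExc.LangFr (IsFrob frob_zero)
open Cfsg.Agent.BpExc.Fr (Fr)


universe u v

section Fam

variable {L : Type u} [Field L] [IsAlgClosed L] (hk : LocFin L) {K : Type u} [Field K] [Fintype K] {q : ℕ}
  (hq : IsPrimePow q) (hK : Fintype.card K = q ^ 3) (f : K →+* L)
  (r : ℕ) [Fact r.Prime] [CharP L r] [CharP K r]

include hk hq hK r in
/-- **The automorphisms of prime order `p ≠ 3` of `³D₄(q)`** (the proof of `BpExc.FamTw.Four.fam`, with the explicit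
Frobenius automorphism in the conclusion). -/
theorem famX {Φ : L ≃+* L} (hΦ : ∀ a, Φ a = a ^ q) {p : ℕ} (hpp : p.Prime) (hp3 : p ≠ 3)
    (x : MulAut ↥(twistedD4 K q)) (hx : orderOf x = p) :
    (∃ y : ↥(chevD4.group L), y ^ p = 1 ∧ (gr hD4 symmD4a * fld chevD4 Φ : MulAut ↥(chevD4.group L)) y = y ∧
      ∀ a, em q f (x a) = y * em q f a * y⁻¹) ∨
    ∃ (i : ℕ) (c : ↥(chevD4.group L)) (j e' : ℕ),
      i.Coprime p ∧ 0 < e' ∧ (j = 1 ∨ j = 2) ∧ q = r ^ (p * e') ∧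
      fixedSubgroup (MulAut.conj c * (gr hD4 symmD4a ^ j * fld chevD4 (frb L r e'))) ≤
        fixedSubgroup (gr hD4 symmD4a * fld chevD4 Φ) ∧
      ∀ a, em q f ((x ^ i) a) =
        (MulAut.conj c * (gr hD4 symmD4a ^ j * fld chevD4 (frb L r e')) : MulAut ↥(chevD4.group L)) (em q f a) := by
  obtain ⟨φ, hφ⟩ := D4Fixed.exists_frob hq hK
  obtain ⟨cs', -⟩ : ∃ cs : CoxeterSystem CoxeterMatrix.G₂ CoxeterMatrix.G₂.Group, cs = cs :=
    ⟨CoxeterMatrix.G₂.toCoxeterSystem, rfl⟩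
  have hroot : ∀ a : K, ∃ b : L, b ^ 2 = f a := fun a => IsAlgClosed.exists_pow_nat_eq (f a) two_pos
  have hΦf : ∀ a, Φ (f a) = f (φ a) := fun a => by rw [hΦ, hφ, map_pow]
  have hxp : x ^ p = 1 := by rw [← hx, pow_orderOf_eq_one]
  obtain ⟨a, τ, y, S, hy, hxy⟩ := exists_lift hφ hK cs' r f hq.one_lt hroot hΦf x
  have hτp := tau_pow_eq_one hφ hK cs' r S hxp
  have hcent : ∀ c, (gr hD4 symmD4a * fld chevD4 Φ : MulAut ↥(chevD4.group L)) c = c → (∀ g, c * em q f g = em q f g * c) → c = 1 :=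
    fun c _ hc => eq_one_of_comm hφ hK f hc
  by_cases hτ1 : τ = 1
  · left
    subst hτ1
    have hxy' : ∀ g, em q f (x g) = y * em q f g * y⁻¹ := fun g => by rw [hxy, st_one]
    refine ⟨y, ?_, hy, hxy'⟩
    have h1 := pow_eq (σ := gr hD4 symmD4a * fld chevD4 Φ) (ψ := 1) (e := em q f) (fun z => rfl) hcent hxp
      (fun g => by rw [one_pow]; rfl) hy hxy'
    rw [mul_one, one_pow, ← map_pow] at h1
    refine hcent _ ?_ fun g => ?_
    · rw [map_pow]
      exact congrArg (· ^ p) hy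
    · have h2 := congrArg (fun α : MulAut ↥(chevD4.group L) => α (em q f g)) h1
      have h3 : y ^ p * em q f g * (y ^ p)⁻¹ = em q f g := h2
      rwa [mul_inv_eq_iff_eq_mul] at h3
  · right
    have hr : r.Prime := Fact.out
    obtain ⟨i, e, hi, he0, hcard, hfr⟩ := exists_field r hpp hτp hτ1
    -- `q = r ^ a₁`
    obtain ⟨a₁, -, hqa⟩ : ∃ a₁ ≤ e * p, q = r ^ a₁ := by
      refine (Nat.dvd_prime_pow hr).1 ?_
      rw [← hcard, Nat.card_eq_fintype_card, hK]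
      exact dvd_pow_self q (by norm_num)
    have h3a : a₁ * 3 = e * p := by
      rw [Nat.card_eq_fintype_card, hK, hqa, ← pow_mul] at hcard
      exact Nat.pow_right_injective hr.two_le hcard
    have hpa : p ∣ a₁ := by
      have h1 : p ∣ a₁ * 3 := ⟨e, by rw [h3a, mul_comm]⟩
      rcases (Nat.Prime.dvd_mul hpp).1 h1 with h2 | h2
      · exact h2
      · exact absurd ((Nat.prime_dvd_prime_iff_eq hpp Nat.prime_three).1 h2) hp3
    obtain ⟨a₀, rfl⟩ := hpa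
    have hea : e = 3 * a₀ := by
      have h1 : p * (3 * a₀) = p * e := by rw [mul_comm p e, ← h3a]; ring
      exact (Nat.eq_of_mul_eq_mul_left hpp.pos h1).symm
    subst hea
    have ha0 : 0 < a₀ := by
      rcases Nat.eq_zero_or_pos a₀ with h0 | h0
      · rw [h0] at he0
        exact absurd he0 (by norm_num)
      · exact h0
    -- `j p = 1 mod 3`
    obtain ⟨j, t, hjt, hj12⟩ : ∃ j t : ℕ, j * p = 3 * t + 1 ∧ (j = 1 ∨ j = 2) := by
      have h0 : p % 3 ≠ 0 := fun h => hp3 ((Nat.prime_dvd_prime_iff_eq Nat.prime_three hpp).1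
        (Nat.dvd_of_mod_eq_zero h)).symm
      have hdm := Nat.div_add_mod p 3
      have hmod : p % 3 = 1 ∨ p % 3 = 2 := by omega
      rcases hmod with hm | hm
      · exact ⟨1, p / 3, by omega, Or.inl rfl⟩
      · exact ⟨2, 2 * (p / 3) + 1, by omega, Or.inr rfl⟩
    obtain ⟨s, hs⟩ : ∃ s : ℕ, s = 2 * t + 1 := ⟨_, rfl⟩
    have hs3 : 3 * s = 1 + 2 * (j * p) := by rw [hjt, hs]; ring
    have hsp : s.Coprime p := by
      refine ((Nat.Prime.coprime_iff_not_dvd hpp).2 fun h1 => ?_).symm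
      have h2 : p ∣ 1 + 2 * (j * p) := by rw [← hs3]; exact h1.mul_left 3
      have h3 : p ∣ 2 * (j * p) := ⟨2 * j, by ring⟩
      exact hpp.one_lt.ne' (Nat.dvd_one.1 ((Nat.dvd_add_left h3).1 h2))
    have hperfL : PerfectRing L r := inferInstance
    have hperfK : PerfectRing K r := inferInstance
    obtain ⟨φ₀, hφ₀⟩ : ∃ φ₀ : MulAut ↥(chevD4.group L), φ₀ = gr hD4 symmD4a ^ j * fld chevD4 (frb L r a₀) := ⟨_, rfl⟩
    have hΦe : Φ = frb L r a₀ ^ p := by
      ext b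
      rw [frb_pow, frb_apply, hΦ, hqa, mul_comm]
    have hcomm : Commute (gr (L := L) hD4 symmD4a) (fld chevD4 (frb L r a₀)) := gr_mul_fld hD4 symmD4a _
    have hpow : φ₀ ^ p = gr hD4 symmD4a * fld chevD4 Φ := by
      rw [hφ₀, (hcomm.pow_left j).mul_pow, ← pow_mul, hjt, pow_succ, pow_mul, gr_cube_D4, one_pow, one_mul, ← fld_pow,
        ← hΦe]
    -- the action of `φ₀`
    have hψ : ∀ b : K, φ (frb K r (2 * (p * a₀)) b) = b := by
      intro b
      rw [hφ, frb_apply, hqa, ← pow_mul, ← pow_add]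
      have h1 : 2 * (p * a₀) + p * a₀ = p * a₀ * 3 := by ring
      rw [h1, pow_mul, ← hqa, ← hK]
      exact FiniteField.pow_card b
    have hgr : ∀ (n : ℕ) (g : ↥(twistedD4 K q)),
        (gr hD4 symmD4a ^ n) (em q f g) = em q f (st q (frb K r (2 * (p * a₀)) ^ n) g) := by
      intro n
      induction n with
      | zero => intro g; rw [pow_zero, pow_zero, st_one]; rfl
      | succ n ih =>
        intro g
        rw [pow_succ, MulAut.mul_apply, gr_em hφ hK f hΦf hψ, ih, pow_succ, st_mul]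
    have hτs : frb K r (2 * (p * a₀)) ^ j * frb K r a₀ = τ ^ (i * s) := by
      apply RingEquiv.ext
      intro b
      rw [pow_mul, pow_apply_of hfr, frb_pow, RingAut.mul_apply, frb_apply, frb_apply, ← pow_mul, ← pow_add]
      congr 2
      have h1 : 3 * a₀ * s = (3 * s) * a₀ := by ring
      rw [h1, hs3]
      ring
    have hact : ∀ g : ↥(twistedD4 K q), φ₀ (em q f g) = em q f (st q (τ ^ (i * s)) g) := by
      intro g
      rw [hφ₀, MulAut.mul_apply, fld_em f (τ := frb K r a₀) (fun b => by rw [frb_apply, frb_apply, map_pow]), hgr,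
        ← st_mul, hτs]
    obtain ⟨a', τ', y', S', hy', hxy'⟩ := exists_lift hφ hK cs' r f hq.one_lt hroot hΦf (x ^ (i * s))
    obtain ⟨b, hb⟩ := dtau_pow' hφ hK S (i * s)
    have hττ : τ' = τ ^ (i * s) := dtau_unique hφ hK cs' r S' hb
    subst hττ
    have hxy'' : ∀ g, em q f ((x ^ (i * s)) g) = y' * φ₀ (em q f g) * y'⁻¹ := fun g => by rw [hxy', hact]
    have h1 : (MulAut.conj y' * φ₀) ^ p = φ₀ ^ p := by
      refine pow_eq (σ := gr hD4 symmD4a * fld chevD4 Φ) (ψ := φ₀) (e := em q f) (fun z => ?_) hcent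
        (x := x ^ (i * s)) ?_ (fun g => ?_) hy' hxy''
      · rw [← hpow, ← MulAut.mul_apply, ← MulAut.mul_apply, ← pow_succ, ← pow_succ']
      · rw [← pow_mul, mul_comm, pow_mul, hxp, one_pow]
      · rw [hpow]
        exact sig_em hφ hK f hΦf g
    rw [hφ₀] at h1 hxy''
    refine ⟨i * s, y', j, a₀, ?_, ha0, hj12, hqa, ?_, hxy''⟩
    · exact Nat.Coprime.mul_left hi hsp
    · intro z hz
      have h2 := Glue.mem_fixed_pow (Glue.mem_fixed.1 hz) p
      rw [h1, ← hφ₀, hpow] at h2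
      exact h2

end Fam

end Cfsg.Agent.H462.TDO
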